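import Groth.Agent.EtSh.Pull
import Groth.Prelude.Def_EtModW
import Mathlib.Algebra.Category.ModuleCat.Sheaf.Abelian

/-!
# Exactness of the inverse image of étale sheaves of modules
-/

set_option autoImplicit false
set_option backward.isDefEq.respectTransparency.types false

universe u

open CategoryTheory CategoryTheory.Limits AlgebraicGeometry Opposite

namespace Groth.Agent.EtModPull

variable (Λ : Type (u + 1)) [CommRing Λ] {X Y : Scheme.{u}} (f : X ⟶ Y)

/-- The forgetful functor to abelian sheaves. -/
noncomputable abbrev U (X : Scheme.{u}) : EtModW.Mod Λ X ⥤ EtCoh.Ab X :=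
  sheafCompose X.smallEtaleTopology (forget₂ (ModuleCat.{u + 1} Λ) AddCommGrpCat.{u + 1})

local instance : HasLimitsOfSize.{u, u} (ModuleCat.{u + 1} Λ) :=
  hasLimitsOfSizeShrink.{u, u, u + 1, u + 1} _

local instance : PreservesFilteredColimitsOfSize.{u, u}
    (forget₂ (ModuleCat.{u + 1} Λ) AddCommGrpCat.{u + 1}) where
  preserves_filtered_colimits _ := inferInstance

/-- stalks of the inverse image -/
noncomputable def stalkPullIso {Ω : Type u} [Field Ω] [IsSepClosed Ω]
    (ξ : Spec (CommRingCat.of Ω) ⟶ X) :
    EtModW.pull Λ f ⋙ EtModW.stalk Λ ξ ≅ EtModW.stalk Λ (ξ ≫ f) :=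
  ((Scheme.pointSmallEtale ξ).sheafFiberComapIso (EtCoh.bc f) (EtCoh.coverPreserving_bc f)
      (ModuleCat.{u + 1} Λ)).symm ≪≫
    { hom := (EtSh.comapPointIso f ξ).inv.sheafFiber
      inv := (EtSh.comapPointIso f ξ).hom.sheafFiber
      hom_inv_id := by rw [← GrothendieckTopology.Point.Hom.sheafFiber_comp, Iso.hom_inv_id,
        GrothendieckTopology.Point.Hom.sheafFiber_id]
      inv_hom_id := by rw [← GrothendieckTopology.Point.Hom.sheafFiber_comp, Iso.inv_hom_id,
        GrothendieckTopology.Point.Hom.sheafFiber_id] }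

theorem pull_preservesMonomorphisms : (EtModW.pull Λ f).PreservesMonomorphisms where
  preserves {F G} α _ := by
    let F₂ := forget₂ (ModuleCat.{u + 1} Λ) AddCommGrpCat.{u + 1}
    have : Mono ((U Λ Y).map α) := by
      have : ∀ V, Mono (((sheafToPresheaf Y.smallEtaleTopology AddCommGrpCat.{u + 1}).map ((U Λ Y).map α)).app V) :=
        fun V => by
          change Mono (F₂.map (α.hom.app V))
          have : Mono (α.hom.app V) :=
            inferInstanceAs (Mono (((sheafToPresheaf _ _).map α).app V))
          infer_instance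
      have := NatTrans.mono_of_mono_app ((sheafToPresheaf Y.smallEtaleTopology AddCommGrpCat.{u + 1}).map ((U Λ Y).map α))
      exact (sheafToPresheaf _ _).mono_of_mono_map this
    have : Mono ((U Λ X).map ((EtModW.pull Λ f).map α)) :=
      EtSh.mono_of_stalk _ fun Ω _ _ ξ => by
        rw [← AddCommGrpCat.mono_iff_injective]
        have h : ∀ {Z : Scheme.{u}} (η : Spec (CommRingCat.of Ω) ⟶ Z) {A B : EtModW.Mod Λ Z} (β : A ⟶ B),
            Mono ((EtCoh.stalk η).map ((U Λ Z).map β)) ↔ Mono (F₂.map ((EtModW.stalk Λ η).map β)) :=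
          fun {Z} η {A B} β => (MorphismProperty.monomorphisms _).arrow_mk_iso_iff
            (((Functor.mapArrowFunctor _ _).mapIso
              ((Scheme.pointSmallEtale η).sheafFiberCompIso F₂)).app (Arrow.mk β))
        refine (h ξ _).2 ?_
        refine ((MorphismProperty.monomorphisms _).arrow_mk_iso_iff
          (((Functor.mapArrowFunctor _ _).mapIso
            (Functor.isoWhiskerRight (stalkPullIso Λ f ξ) F₂)).app (Arrow.mk α))).2 ?_
        exact (h (ξ ≫ f) α).1 ((AddCommGrpCat.mono_iff_injective _).2 (EtSh.stalk_map_injective _))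
    exact (U Λ X).mono_of_mono_map this

noncomputable def adj : EtModW.pull Λ f ⊣ EtModW.push Λ f :=
  (EtCoh.bc f).sheafAdjunctionContinuous (ModuleCat.{u + 1} Λ) Y.smallEtaleTopology X.smallEtaleTopology

theorem pull_additive : (EtModW.pull Λ f).Additive := (adj Λ f).left_adjoint_additive

theorem pull_preservesFiniteColimits : PreservesFiniteColimits (EtModW.pull Λ f) :=
  have := (adj Λ f).leftAdjoint_preservesColimits
  inferInstance

theorem pull_preservesFiniteLimits : PreservesFiniteLimits (EtModW.pull Λ f) := by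
  have := pull_preservesMonomorphisms Λ f
  have := pull_additive Λ f
  have := pull_preservesFiniteColimits Λ f
  have : (EtModW.pull Λ f).PreservesHomology :=
    Functor.preservesHomology_of_preservesMonos_and_cokernels _
  exact Functor.preservesFiniteLimits_of_preservesHomology _

end Groth.Agent.EtModPull
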